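import Mathlib

/-!
The locus where the projective dimension of a finite module is at most `n` is open.
-/

set_option autoImplicit false

namespace Groth.Agent.Dim

open CategoryTheory

universe u

variable (A : Type u) [CommRing A] [IsNoetherianRing A]

theorem isOpen_pd_le (n : ℕ) : ∀ (M : Type u) [AddCommGroup M] [Module A M] [Module.Finite A M],
    IsOpen {p : PrimeSpectrum A | HasProjectiveDimensionLE
      (ModuleCat.of (Localization.AtPrime p.asIdeal) (LocalizedModule p.asIdeal.primeCompl M)) n} := by
  induction n with
  | zero =>
    intro M _ _ _
    haveI : Module.FinitePresentation A M := Module.finitePresentation_of_finite A M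
    refine (congrArg IsOpen (Set.ext fun p => ?_)).mpr (Module.isOpen_freeLocus (R := A) (M := M))
    rw [Set.mem_ofPred_eq, ← projective_iff_hasProjectiveDimensionLE_zero, ← IsProjective.iff_projective, Module.mem_freeLocus]
    exact ⟨fun h => by haveI := h; exact Module.free_of_flat_of_isLocalRing, fun h => by haveI := h; exact inferInstance⟩
  | succ n ih =>
    intro M _ _ _
    obtain ⟨k, φ, hφ⟩ := Module.Finite.exists_fin' A M
    haveI : Module.Finite A (LinearMap.ker φ) := Module.Finite.iff_fg.mpr (IsNoetherian.noetherian _)
    refine (congrArg IsOpen (Set.ext fun p => ?_)).mpr (ih (LinearMap.ker φ))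
    let S := p.asIdeal.primeCompl
    haveI : Module.Free (Localization.AtPrime p.asIdeal) (LocalizedModule S (Fin k → A)) :=
      Module.free_of_isLocalizedModule (R := A) S (LocalizedModule.mkLinearMap S (Fin k → A))
    haveI : Projective (ModuleCat.of (Localization.AtPrime p.asIdeal) (LocalizedModule S (Fin k → A))) :=
      (IsProjective.iff_projective _).mp inferInstance
    let f := LocalizedModule.map S (LinearMap.ker φ).subtype
    let g := LocalizedModule.map S φ
    have hex : Function.Exact f g := LocalizedModule.map_exact S _ _ φ.exact_subtype_ker_map
    let T : ShortComplex (ModuleCat.{u} (Localization.AtPrime p.asIdeal)) :=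
      ShortComplex.moduleCatMk (R := Localization.AtPrime p.asIdeal) (X₁ := LocalizedModule S (LinearMap.ker φ))
        (X₂ := LocalizedModule S (Fin k → A)) (X₃ := LocalizedModule S M) f g hex.linearMap_comp_eq_zero
    have hse : T.ShortExact := ModuleCat.shortComplex_shortExact T hex
      (LocalizedModule.map_injective S _ (LinearMap.ker φ).injective_subtype)
      (LocalizedModule.map_surjective S _ hφ)
    exact hse.hasProjectiveDimensionLT_X₃_iff n ‹Projective (ModuleCat.of (Localization.AtPrime p.asIdeal) (LocalizedModule S (Fin k → A)))›

end Groth.Agent.Dim
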