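import Groth.Prelude.Def_EGA4b
import Groth.Agent.FlatDepth.AtPrime
import Groth.Agent.FlatDepth.Basic
import Groth.Agent.LocH.AdjDepthChange
import Groth.Agent.QGorD.Skn
import Mathlib

/-!
Openness of loci `(R_n)` and `(S_1)`, monotonicity of the dimension of the support.
-/

set_option autoImplicit false
set_option linter.style.haveILetI false

namespace Groth.Agent.Dim

universe u

open IsLocalRing

theorem hasRkAt_iff {A : Type u} [CommRing A] [IsNoetherianRing A] (n : ℕ) (p : PrimeSpectrum A) :
    EGA4.HasRkAt n A p.asIdeal ↔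
      ∀ P : PrimeSpectrum A, P ≤ p → P.asIdeal.height ≤ n → IsRegularLocalRing (Localization.AtPrime P.asIdeal) :=
  ⟨fun h P hP hk => FlatDepth.hasRk_loc_apply p.asIdeal h P.asIdeal hP hk,
    fun h => FlatDepth.hasRk_loc_of_forall n p.asIdeal fun P hP hle hk => h ⟨P, hP⟩ hle hk⟩

/-- A set whose complement consists of the specialisations of finitely many points is open. -/
theorem isOpen_of_finite_bad {A : Type u} [CommRing A] (U S : Set (PrimeSpectrum A)) (hS : S.Finite)
    (h : ∀ p, p ∉ U ↔ ∃ η ∈ S, η ≤ p) : IsOpen U := by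
  have : Uᶜ = ⋃ η ∈ S, PrimeSpectrum.zeroLocus (η.asIdeal : Set A) := by
    ext p
    simp only [Set.mem_compl_iff, h, Set.mem_iUnion, PrimeSpectrum.mem_zeroLocus, SetLike.coe_subset_coe, exists_prop]
    rfl
  rw [← isClosed_compl_iff, this]
  exact hS.isClosed_biUnion fun η _ => PrimeSpectrum.isClosed_zeroLocus _

theorem isOpen_hasRk_zero (A : Type u) [CommRing A] [IsNoetherianRing A] :
    IsOpen {p : PrimeSpectrum A | EGA4.HasRkAt 0 A p.asIdeal} := by
  refine isOpen_of_finite_bad _ {η : PrimeSpectrum A | η.asIdeal ∈ minimalPrimes A ∧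
    ¬ IsRegularLocalRing (Localization.AtPrime η.asIdeal)} ?_ fun p => ?_
  · refine Set.Finite.subset ((minimalPrimes.finite_of_isNoetherianRing A).preimage
      (fun a _ b _ h => PrimeSpectrum.ext h)) fun η hη => hη.1
  · rw [Set.mem_ofPred_eq, hasRkAt_iff]
    push Not
    exact ⟨fun ⟨P, hP, hk, hr⟩ => ⟨P, ⟨Ideal.height_eq_zero_iff.1 (nonpos_iff_eq_zero.1 hk), hr⟩, hP⟩,
      fun ⟨η, ⟨hη, hr⟩, hle⟩ => ⟨η, hle, (Ideal.height_eq_zero_iff.2 hη).le, hr⟩⟩

theorem isOpen_hasRk {A : Type u} [CommRing A] [IsNoetherianRing A] (h : IsOpen (EGA4.regLocus A)) (n : ℕ) :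
    IsOpen {p : PrimeSpectrum A | EGA4.HasRkAt n A p.asIdeal} := by
  obtain ⟨I, hI⟩ := (PrimeSpectrum.isClosed_iff_zeroLocus_ideal _).1 h.isClosed_compl
  have hmem : ∀ P : PrimeSpectrum A, ¬ IsRegularLocalRing (Localization.AtPrime P.asIdeal) ↔ I ≤ P.asIdeal := fun P => by
    rw [← SetLike.coe_subset_coe, ← PrimeSpectrum.mem_zeroLocus, ← hI]
    rfl
  refine isOpen_of_finite_bad _ {η : PrimeSpectrum A | η.asIdeal ∈ I.minimalPrimes ∧ η.asIdeal.height ≤ n} ?_ fun p => ?_
  · refine Set.Finite.subset ((Ideal.finite_minimalPrimes_of_isNoetherianRing A I).preimage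
      (fun a _ b _ h => PrimeSpectrum.ext h)) fun η hη => hη.1
  · rw [Set.mem_ofPred_eq, hasRkAt_iff]
    push Not
    constructor
    · rintro ⟨P, hP, hk, hr⟩
      obtain ⟨Q, hQ, hQP⟩ := Ideal.exists_minimalPrimes_le ((hmem P).1 hr)
      exact ⟨⟨Q, hQ.1.1⟩, ⟨hQ, (Ideal.height_mono hQP).trans hk⟩, le_trans (show (⟨Q, hQ.1.1⟩ : PrimeSpectrum A) ≤ P from hQP) hP⟩
    · rintro ⟨η, ⟨hη, hk⟩, hle⟩
      exact ⟨η, hle, hk, (hmem η).2 hη.1.2⟩

section support

variable {A : Type u} [CommRing A] {M : Type u} [AddCommGroup M] [Module A M]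

theorem supportDim_localized_mono (p q : Ideal A) [p.IsPrime] [q.IsPrime] (hpq : p ≤ q) :
    Module.supportDim (Localization.AtPrime p) (LocalizedModule p.primeCompl M) ≤
      Module.supportDim (Localization.AtPrime q) (LocalizedModule q.primeCompl M) := by
  let c : PrimeSpectrum (Localization.AtPrime p) → PrimeSpectrum A :=
    PrimeSpectrum.comap (algebraMap A (Localization.AtPrime p))
  have hd : ∀ x, Disjoint (q.primeCompl : Set A) ((c x).asIdeal : Set A) := fun x =>
    Set.disjoint_left.2 fun a ha hax => ha (hpq (FlatDepth.comap_loc_le p x.asIdeal hax))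
  let φ : PrimeSpectrum (Localization.AtPrime p) → PrimeSpectrum (Localization.AtPrime q) := fun x =>
    ⟨(c x).asIdeal.map (algebraMap A _),
      IsLocalization.isPrime_of_isPrime_disjoint q.primeCompl _ _ (c x).isPrime (hd x)⟩
  have hφ : ∀ x, PrimeSpectrum.comap (algebraMap A (Localization.AtPrime q)) (φ x) = c x := fun x =>
    PrimeSpectrum.ext (IsLocalization.comap_map_of_isPrime_disjoint q.primeCompl _ (c x).isPrime (hd x))
  refine Order.krullDim_le_of_strictMono (fun x => (⟨φ x.1, (QGorD.mem_support_localized_iff q _).2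
    ((hφ x.1).symm ▸ (QGorD.mem_support_localized_iff p x.1).1 x.2)⟩ :
      ↥(Module.support (Localization.AtPrime q) (LocalizedModule q.primeCompl M)))) fun x y hxy => ?_
  refine lt_of_le_of_ne (Ideal.map_mono (Ideal.comap_mono hxy.le)) fun heq => hxy.ne ?_
  have h1 : c x.1 = c y.1 := by rw [← hφ, ← hφ]; exact congrArg _ (congrArg Subtype.val heq)
  exact Subtype.ext (PrimeSpectrum.localization_comap_injective (Localization.AtPrime p) p.primeCompl h1)

variable [IsNoetherianRing A] [Module.Finite A M]

/-- `(S_1)` at a prime: no embedded associated prime below it. -/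
theorem hasSkAt_one_iff (p : PrimeSpectrum A) : EGA4.HasSkAt 1 A M p.asIdeal ↔
    ∀ P : PrimeSpectrum A, P ≤ p → P.asIdeal ∈ associatedPrimes A M →
      ∀ Q ∈ Module.support A M, Q ≤ P → Q = P := by
  constructor
  · intro h P hP hass Q hQ hQP
    by_contra hne
    have hd : Disjoint (p.asIdeal.primeCompl : Set A) (P.asIdeal : Set A) :=
      Set.disjoint_left.2 fun x hx hxP => hx (hP hxP)
    let P' := P.asIdeal.map (algebraMap A (Localization.AtPrime p.asIdeal))
    haveI : P'.IsPrime := IsLocalization.isPrime_of_isPrime_disjoint p.asIdeal.primeCompl _ _ P.isPrime hd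
    have hc : P'.comap (algebraMap A (Localization.AtPrime p.asIdeal)) = P.asIdeal :=
      IsLocalization.comap_map_of_isPrime_disjoint p.asIdeal.primeCompl _ P.isPrime hd
    have h1 := QGorD.le_depth_of_le_min (n := 1) (h P') le_rfl ?_
    · rw [LocH.depth_localization_localization, LocH.depth_eq_zero_of_associated M (hc.symm ▸ hass)] at h1
      simp at h1
    · have hd2 : Disjoint (p.asIdeal.primeCompl : Set A) (Q.asIdeal : Set A) :=
        Set.disjoint_left.2 fun x hx hxQ => hx (hP (hQP hxQ))
      let Q' : PrimeSpectrum (Localization.AtPrime p.asIdeal) := ⟨Q.asIdeal.map (algebraMap A _),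
        IsLocalization.isPrime_of_isPrime_disjoint p.asIdeal.primeCompl _ _ Q.isPrime hd2⟩
      have hQ' : Q' ∈ Module.support (Localization.AtPrime p.asIdeal) (LocalizedModule p.asIdeal.primeCompl M) := by
        rw [QGorD.mem_support_localized_iff]
        convert hQ
        exact PrimeSpectrum.ext (IsLocalization.comap_map_of_isPrime_disjoint p.asIdeal.primeCompl _ Q.isPrime hd2)
      have hlt : Q'.asIdeal < P' := lt_of_le_of_ne (Ideal.map_mono hQP) fun heq => hne (PrimeSpectrum.ext (by
        rw [← IsLocalization.comap_map_of_isPrime_disjoint p.asIdeal.primeCompl (Localization.AtPrime p.asIdeal) Q.isPrime hd2]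
        exact (congrArg (Ideal.comap _) heq).trans hc))
      have hdQ : Disjoint (P'.primeCompl : Set (Localization.AtPrime p.asIdeal)) (Q'.asIdeal : Set (Localization.AtPrime p.asIdeal)) :=
        Set.disjoint_left.2 fun x hx hxQ => hx (hlt.le hxQ)
      let Q'' : PrimeSpectrum (Localization.AtPrime P') := ⟨Q'.asIdeal.map (algebraMap _ _),
        IsLocalization.isPrime_of_isPrime_disjoint P'.primeCompl _ _ Q'.isPrime hdQ⟩
      have hQ'' : Q'' ∈ Module.support (Localization.AtPrime P')
          (LocalizedModule P'.primeCompl (LocalizedModule p.asIdeal.primeCompl M)) := by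
        rw [QGorD.mem_support_localized_iff]
        convert hQ'
        exact PrimeSpectrum.ext (IsLocalization.comap_map_of_isPrime_disjoint P'.primeCompl _ Q'.isPrime hdQ)
      have hQm : Q''.asIdeal < maximalIdeal (Localization.AtPrime P') := lt_of_le_of_ne
        (le_maximalIdeal Q''.isPrime.ne_top) fun heq => hlt.ne (by
          rw [← IsLocalization.comap_map_of_isPrime_disjoint P'.primeCompl (Localization.AtPrime P') Q'.isPrime hdQ]
          exact (congrArg (Ideal.comap _) heq).trans (IsLocalization.AtPrime.under_maximalIdeal _ P'))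
      let top : PrimeSpectrum (Localization.AtPrime P') := ⟨maximalIdeal _, inferInstance⟩
      exact Order.one_le_krullDim_iff.2
        ⟨⟨Q'', hQ''⟩, ⟨top, Module.mem_support_mono hQm.le hQ''⟩, hQm⟩
  · intro h P' hP'
    refine QGorD.min_le_of_forall (by omega) fun n hn hn1 hnd => ?_
    obtain rfl : n = 1 := by omega
    by_contra hlt
    have h0 : LocCoh.depth (Localization.AtPrime P') (LocalizedModule P'.primeCompl
        (LocalizedModule p.asIdeal.primeCompl M)) = 0 := ENat.lt_one_iff_eq_zero.1 (by simpa using not_le.1 hlt)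
    have hnt : Nontrivial (LocalizedModule P'.primeCompl (LocalizedModule p.asIdeal.primeCompl M)) := by
      by_contra hs
      rw [not_nontrivial_iff_subsingleton] at hs
      rw [FlatDepth.depth_eq_top] at h0
      exact ENat.top_ne_zero h0
    obtain ⟨x, y, hxy⟩ := Order.one_le_krullDim_iff.1 (by exact_mod_cast hnd)
    let P : PrimeSpectrum A := ⟨P'.comap (algebraMap A (Localization.AtPrime p.asIdeal)), inferInstance⟩
    have hPp : P ≤ p := FlatDepth.comap_loc_le p.asIdeal P'
    rw [LocH.depth_localization_localization] at h0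
    haveI : IsNoetherianRing (Localization.AtPrime P.asIdeal) :=
      IsLocalization.isNoetherianRing P.asIdeal.primeCompl _ inferInstance
    let M' := LocalizedModule P.asIdeal.primeCompl M
    haveI : Nontrivial M' := by
      by_contra hs
      rw [not_nontrivial_iff_subsingleton] at hs
      exact ENat.top_ne_zero ((FlatDepth.depth_eq_top M').symm.trans h0)
    obtain ⟨k, hk⟩ := FlatDepth.exists_socSeq (R := Localization.AtPrime P.asIdeal) M'
    obtain rfl : k = 0 := by
      have := hk.depth_eq.1.symm.trans h0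
      exact_mod_cast this
    have hass : P.asIdeal ∈ associatedPrimes A M := by
      obtain ⟨rs, hl, -, -, z, hz, haz⟩ := hk
      obtain rfl : rs = [] := List.length_eq_zero_iff.1 hl
      obtain ⟨w, rfl⟩ := Submodule.Quotient.mk_surjective _ z
      have hw : w ≠ 0 := fun h => hz (by rw [h]; rfl)
      have haw : ∀ a ∈ maximalIdeal (Localization.AtPrime P.asIdeal), a • w = 0 := fun a ha => by
        have := haz a ha
        rwa [← Submodule.Quotient.mk_smul, Submodule.Quotient.mk_eq_zero, FlatDepth.ofList_nil_smul,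
          Submodule.mem_bot] at this
      have hmax : maximalIdeal (Localization.AtPrime P.asIdeal) ∈ associatedPrimes (Localization.AtPrime P.asIdeal) M' := by
        refine ⟨inferInstance, w, ?_⟩
        have hcol : (⊥ : Submodule (Localization.AtPrime P.asIdeal) M').colon ({w} : Set M') =
            maximalIdeal (Localization.AtPrime P.asIdeal) := by
          refine le_antisymm (le_maximalIdeal fun htop => hw ?_) fun a ha => ?_
          · have := htop.ge (Submodule.mem_top (x := (1 : Localization.AtPrime P.asIdeal)))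
            simpa [Submodule.mem_colon_singleton] using this
          · simpa [Submodule.mem_colon_singleton] using haw a ha
        rw [hcol, Ideal.IsPrime.radical inferInstance]
      have := Module.associatedPrimes.comap_mem_associatedPrimes_of_mem_associatedPrimes_of_isLocalizedModule_of_fg
        P.asIdeal.primeCompl (LocalizedModule.mkLinearMap P.asIdeal.primeCompl M) _ hmax (IsNoetherian.noetherian _)
      exact (IsLocalization.AtPrime.under_maximalIdeal (Localization.AtPrime P.asIdeal) P.asIdeal) ▸ this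
    -- the lower point of a chain gives a support point strictly below `P`
    let c1 := PrimeSpectrum.comap (algebraMap (Localization.AtPrime p.asIdeal) (Localization.AtPrime P'))
    let c2 := PrimeSpectrum.comap (algebraMap A (Localization.AtPrime p.asIdeal))
    have hx : c2 (c1 x.1) ∈ Module.support A M :=
      (QGorD.mem_support_localized_iff _ _).1 ((QGorD.mem_support_localized_iff _ _).1 x.2)
    have hlt' : c1 x.1 < ⟨P', hP'⟩ := by
      refine lt_of_lt_of_le (b := c1 y.1) ?_ (FlatDepth.comap_loc_le P' y.1.asIdeal)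
      exact lt_of_le_of_ne (Ideal.comap_mono hxy.le) fun he =>
        hxy.ne (Subtype.ext (PrimeSpectrum.localization_comap_injective (Localization.AtPrime P') P'.primeCompl he))
    have heq := h P hPp hass _ hx (Ideal.comap_mono hlt'.le)
    exact hlt'.ne (PrimeSpectrum.localization_comap_injective (Localization.AtPrime p.asIdeal) p.asIdeal.primeCompl heq)

theorem isOpen_hasSk_one : IsOpen {p : PrimeSpectrum A | EGA4.HasSkAt 1 A M p.asIdeal} := by
  refine isOpen_of_finite_bad _ {η : PrimeSpectrum A | η.asIdeal ∈ associatedPrimes A M ∧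
    ∃ Q ∈ Module.support A M, Q ≤ η ∧ Q ≠ η} ?_ fun p => ?_
  · exact Set.Finite.subset ((associatedPrimes.finite A M).preimage (fun a _ b _ h => PrimeSpectrum.ext h))
      fun η hη => hη.1
  · rw [Set.mem_ofPred_eq, hasSkAt_one_iff]
    push Not
    exact ⟨fun ⟨P, hP, ha, Q, hQ⟩ => ⟨P, ⟨ha, Q, hQ⟩, hP⟩, fun ⟨η, ⟨ha, hQ⟩, hle⟩ => ⟨η, hle, ha, hQ⟩⟩

end support

end Groth.Agent.Dim
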