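import Mathlib

/-!
Heights and transcendence degrees of primes in a polynomial ring in one variable.
-/

set_option autoImplicit false

namespace Groth.Agent.Dim

open Polynomial

universe u

variable (D : Type u) [CommRing D] [IsDomain D]

theorem height_eq_one_of_comap_eq_bot [IsNoetherianRing D] (Q : Ideal D[X]) [Q.IsPrime] (hQ : Q ≠ ⊥)
    (h0 : Q.comap (C : D →+* D[X]) = ⊥) : Q.height = 1 := by
  let K := FractionRing D
  letI := (Polynomial.mapRingHom (algebraMap D K)).toAlgebra
  haveI : IsLocalization ((nonZeroDivisors D).map (C : D →+* D[X])) K[X] :=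
    Polynomial.isLocalization (nonZeroDivisors D) K
  have disj : Disjoint (((nonZeroDivisors D).map (C : D →+* D[X])) : Set D[X]) Q := by
    refine Set.disjoint_left.mpr ?_
    rintro _ ⟨b, hb, rfl⟩ hbQ
    exact nonZeroDivisors.ne_zero hb ((Submodule.mem_bot D).1 (h0 ▸ hbQ))
  haveI := IsLocalization.isPrime_of_isPrime_disjoint _ K[X] Q inferInstance disj
  have hne : Q.map (algebraMap D[X] K[X]) ≠ ⊥ := fun e => hQ (le_bot_iff.1 fun x hx => by
    have h1 := Ideal.mem_map_of_mem (algebraMap D[X] K[X]) hx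
    rw [e, Submodule.mem_bot] at h1
    exact Polynomial.map_injective (algebraMap D K) (IsFractionRing.injective D K) (h1.trans (Polynomial.map_zero _).symm))
  haveI : (Q.map (algebraMap D[X] K[X])).IsMaximal := Ideal.IsPrime.isMaximal inferInstance hne
  rw [← IsLocalization.height_map_of_disjoint (S := K[X]) _ Q disj]
  exact IsPrincipalIdealRing.height_eq_one_of_isMaximal _ (Polynomial.not_isField K)

variable {D}

omit [IsDomain D] in
theorem height_cases [IsNoetherianRing D] (p : Ideal D) [p.IsPrime] (q : Ideal D[X]) [q.IsPrime] [q.LiesOver p] :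
    (p.map (C : D →+* D[X])).height = p.height ∧ (q ≠ p.map (C : D →+* D[X]) → q.height = p.height + 1) := by
  have key : ∀ (P : Ideal D[X]) [P.IsPrime] [P.LiesOver p], P.height = p.height +
      ((P.map (Ideal.Quotient.mk (p.map (algebraMap D D[X])))).map p.polynomialQuotientEquivQuotientPolynomial.symm).height := by
    intro P _ _
    rw [Ideal.height_eq_height_add_of_liesOver_of_hasGoingDown p P]
    congr 1
    exact (p.polynomialQuotientEquivQuotientPolynomial.symm.height_map _).symm
  constructor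
  · haveI : (p.map (C : D →+* D[X])).IsPrime := Ideal.isPrime_map_C_of_isPrime
    haveI : (p.map (C : D →+* D[X])).LiesOver p := ⟨by
      rw [Ideal.under_def]
      refine le_antisymm Ideal.le_comap_map fun a ha => ?_
      have := (Ideal.mem_map_C_iff.1 ha) 0
      rwa [algebraMap_eq, coeff_C_zero] at this⟩
    rw [key (p.map (C : D →+* D[X]))]
    have h0 : (p.map (C : D →+* D[X])).map (Ideal.Quotient.mk (p.map (algebraMap D D[X]))) = ⊥ := Ideal.map_quotient_self _
    rw [h0, Ideal.map_bot, Ideal.height_bot, add_zero]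
  · intro hne
    rw [key q]
    congr 1
    let g : D[X] →+* (D ⧸ p)[X] := p.polynomialQuotientEquivQuotientPolynomial.symm.toRingHom.comp
      (Ideal.Quotient.mk (p.map (algebraMap D D[X])))
    have hg : ∀ f, g f = f.map (Ideal.Quotient.mk p) := fun f => Ideal.polynomialQuotientEquivQuotientPolynomial_symm_mk p f
    have hgs : Function.Surjective g :=
      p.polynomialQuotientEquivQuotientPolynomial.symm.surjective.comp Ideal.Quotient.mk_surjective
    have hqq : (q.map (Ideal.Quotient.mk (p.map (algebraMap D D[X])))).map p.polynomialQuotientEquivQuotientPolynomial.symm = q.map g := by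
      rw [← Ideal.map_map]
      rfl
    rw [hqq]
    have hkq : p.map (C : D →+* D[X]) ≤ q := Ideal.map_le_iff_le_comap.2 (Ideal.over_def q p).le
    have hker : RingHom.ker g = p.map (C : D →+* D[X]) := by
      ext f
      rw [RingHom.mem_ker, hg, ← Polynomial.coe_mapRingHom, ← RingHom.mem_ker, Polynomial.ker_mapRingHom, Ideal.mk_ker]
    haveI : (q.map g).IsPrime := Ideal.map_isPrime_of_surjective hgs (hker ▸ hkq)
    have hcm : (q.map g).comap g = q := by
      rw [Ideal.comap_map_of_surjective _ hgs, ← RingHom.ker_eq_comap_bot, hker, sup_eq_left.2 hkq]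
    refine height_eq_one_of_comap_eq_bot _ _ (fun e => hne ?_) (le_bot_iff.1 fun a ha => ?_)
    · rw [← hcm, e, ← RingHom.ker_eq_comap_bot, hker]
    · obtain ⟨a, rfl⟩ := Ideal.Quotient.mk_surjective a
      rw [Ideal.mem_comap, ← Polynomial.map_C, ← hg, ← Ideal.mem_comap, hcm, ← algebraMap_eq, ← Ideal.mem_comap] at ha
      rw [Submodule.mem_bot, Ideal.Quotient.eq_zero_iff_mem]
      exact (Ideal.over_def q p).ge ha

omit [IsDomain D] in
theorem trdeg_cases (p : Ideal D) [p.IsPrime] (q : Ideal D[X]) [q.IsPrime] [q.LiesOver p] :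
    (q = p.map (C : D →+* D[X]) → Algebra.trdeg (D ⧸ p) (D[X] ⧸ q) = 1) ∧
      (q ≠ p.map (C : D →+* D[X]) → Algebra.trdeg (D ⧸ p) (D[X] ⧸ q) = 0) := by
  have hkq : p.map (C : D →+* D[X]) ≤ q := Ideal.map_le_iff_le_comap.2 (Ideal.over_def q p).le
  constructor
  · intro e
    subst e
    refine Eq.trans ?_ (Polynomial.trdeg_of_isDomain (R := D ⧸ p))
    refine (AlgEquiv.trdeg_eq (AlgEquiv.ofRingEquiv (f := p.polynomialQuotientEquivQuotientPolynomial) fun a => ?_)).symm
    obtain ⟨a, rfl⟩ := Ideal.Quotient.mk_surjective a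
    rw [Polynomial.algebraMap_eq, ← Polynomial.map_C (f := Ideal.Quotient.mk p),
      Ideal.polynomialQuotientEquivQuotientPolynomial_map_mk]
    rfl
  · intro hne
    obtain ⟨f, hfq, hfp⟩ := Set.not_subset.1 fun h => hne (le_antisymm h hkq)
    have hf0 : f.map (Ideal.Quotient.mk p) ≠ 0 := fun e => hfp (by
      have h1 : f ∈ RingHom.ker (Polynomial.mapRingHom (Ideal.Quotient.mk p)) := e
      rwa [Polynomial.ker_mapRingHom, Ideal.mk_ker] at h1)
    have hcomp : (algebraMap (D ⧸ p) (D[X] ⧸ q)).comp (Ideal.Quotient.mk p) =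
        (Ideal.Quotient.mk q).comp (C : D →+* D[X]) := RingHom.ext fun _ => rfl
    have hX : IsAlgebraic (D ⧸ p) (Ideal.Quotient.mk q X) := ⟨f.map (Ideal.Quotient.mk p), hf0, by
      rw [aeval_def, eval₂_map, hcomp, ← hom_eval₂, eval₂_C_X, Ideal.Quotient.eq_zero_iff_mem]
      exact hfq⟩
    haveI : Algebra.IsAlgebraic (D ⧸ p) (D[X] ⧸ q) := ⟨fun x => by
      obtain ⟨g, rfl⟩ := Ideal.Quotient.mk_surjective x
      induction g using Polynomial.induction_on with
      | C a => exact (isAlgebraic_algebraMap (R := D ⧸ p) (A := D[X] ⧸ q) (Ideal.Quotient.mk p a) :)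
      | add g h hg hh => rw [map_add]; exact hg.add hh
      | monomial n a h => rw [pow_succ, ← mul_assoc, map_mul]; exact h.mul hX⟩
    exact trdeg_eq_zero

end Groth.Agent.Dim
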